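import Groth.Agent.ResProp.EF.K172.LvA

/-!
# (AD2) for the output of the producer (helper172)

* `kToC`, `galB` : the Galois datum of `B ⊗ D` over `B ⊗ C`;
* `etaComp` : `EtaMatch` gives 431's `EtaComp`;
* **`H1_H2`** : `(ts o.X (arB B o.lev)).H1 q`, `.H2 q` for `o : ALGOut c`, `B` flat over `k`, `q ≥ 1`;
* `glue`, `lift` : 363's `glueP`, `liftP` for `o`.
-/

set_option autoImplicit false
set_option linter.dupNamespace false
set_option linter.style.haveILetI false

open CategoryTheory Opposite TensorProduct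

noncomputable section

namespace Groth.Agent.ResProp.EF.K172

open K784.BC K784.PM K741.RP EF56 K294 Grp Arch K980 K363 K431 K477

universe u

section Gal

variable {k : Type u} [CommRing k] {A : NFᵒᵖ ⥤ CommRingCat.{u}} [GRF k A] (Y : AffOver A)
  {C : Type u} [CommRing C] (G : K477.Gal Y.D C)

/-- a ring homomorphism is a base change of the base ring -/
theorem isBC_ring {S T : Type u} [CommRing S] [CommRing T] (φ : S →+* T) : IsBC φ (φ : S →+ T) := by
  refine IsBC.of_lift (fun a m => φ.map_mul a m) (fun Q _ _ g hg => ?_)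
  refine ⟨(LinearMap.toSpanSingleton _ Q (g 1)), fun m => ?_, fun g' hg' => ?_⟩
  · change φ m • g 1 = g m
    rw [← hg, smul_eq_mul, mul_one]
  · ext
    rw [LinearMap.toSpanSingleton_apply, one_smul, ← hg']
    exact congrArg g' (map_one φ).symm

theorem gal_injective : Function.Injective G.φ := G.ff.injective

theorem gal_mem (z : Y.D.obj (op ⟨0⟩)) (hz : rg Y.D (pr ⟨0⟩) z = rg Y.D (lst ⟨0⟩) z) : ∃ c, G.φ c = z := by
  have h := IsBC.mem_range G.ff G.po (isBC_ring G.φ) (r₁ := (rg Y.D (pr ⟨0⟩) : _ →+ _))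
    (r₂ := (rg Y.D (lst ⟨0⟩) : _ →+ _)) (fun b m => (rg Y.D (pr ⟨0⟩)).map_mul b m) (isBC_ring _)
    (fun m => congr($(G.po.comm) m)) hz
  exact h

/-- `k → C` -/
def kToC : k →+* C :=
  let e : C ≃+* G.φ.range := RingEquiv.ofBijective G.φ.rangeRestrict
    ⟨fun a b h => gal_injective Y G (congrArg Subtype.val h), G.φ.rangeRestrict_surjective⟩
  (e.symm : G.φ.range →+* C).comp ((algebraMap k (Y.D.obj (op ⟨0⟩))).codRestrict G.φ.range fun r =>
    gal_mem Y G _ (by rw [klinD Y, klinD Y]))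

theorem kToC_spec : G.φ.comp (kToC (k := k) Y G) = algebraMap k (Y.D.obj (op ⟨0⟩)) := by
  refine RingHom.ext fun r => ?_
  let e : C ≃+* G.φ.range := RingEquiv.ofBijective G.φ.rangeRestrict
    ⟨fun a b h => gal_injective Y G (congrArg Subtype.val h), G.φ.rangeRestrict_surjective⟩
  have h1 : ∀ z : G.φ.range, G.φ (e.symm z) = z.1 := fun z => congrArg Subtype.val (e.apply_symm_apply z)
  exact h1 _

variable (B : Type u) [CommRing B] [Algebra k B]

/-- the Galois datum of `B ⊗ D` -/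
def galB : K477.Gal (GB (k := k) Y B) (TO B (kToC (k := k) Y G)) :=
  (isTens_lvF k (klinD Y) B).gal G (kToC Y G) (kToC_spec Y G) (TO.inr B (kToC Y G)) (TO.inl B (kToC Y G))
    (TO.po B (kToC Y G))

theorem isGal_B : IsGal (GB (k := k) Y B) (galB Y G B).φ where
  gr := CartHom.gr (cartHom_lvMap k klinA (klinD Y) Y.j (fun _ _ => rfl) B Y.cart) (hEB k A B)
  ff := (galB Y G B).ff
  po := (galB Y G B).po

end Gal

section Eta

variable {k : Type u} [CommRing k] {A : NFᵒᵖ ⥤ CommRingCat.{u}} [GRF k A] {x : PrimeSpectrum (A.obj (op ⟨0⟩))}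
  {c : CoverDatum k A x} (o : ALGOut c) (B : Type u) [CommRing B] [Algebra k B]

/-- the levels of the algebra of the package -/
abbrev lvX : AlgLev (vxOf (inclB k A B)) o.X.D := algLevB c.Y B o.iD

theorem bD_eq (n : ℕ) (i : Fin (n + 1)) (v : BC (xp k A B n i) o.X.D) :
    (lvX o B).bD n i v = vtxD c B n i (BC.map (xp k A B n i) o.iD.toLinearMap v) := by
  induction v using BC.ind with
  | h0 =>
    refine (map_zero ((lvX o B).bD n i)).trans ?_
    rw [map_zero, map_zero]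
    rfl
  | h1 r d =>
    rw [map_smul, BC.map_bc]
    refine ((lvX o B).bD_smul n i r _).trans ?_
    refine Eq.trans ?_ ((vtxD c B n i).map_smulₛₗ r _).symm
    have h1 : (lvX o B).bD n i (bc (xp k A B n i) d) = 1 ⊗ₜ[k] rg c.Y.D (pt ⟨n⟩ i) (o.iD d) :=
      (lvX o B).bD_bc n i d
    have h2 : vtxD c B n i (bc (xp k A B n i) (o.iD.toLinearMap d)) = 1 ⊗ₜ[k] rg c.Y.D (pt ⟨n⟩ i) (o.iD d) :=
      BC.lift_bc (x := xp k A B n i) _ _ _
    rw [h1, h2]
    rfl
  | h2 a b ha hb =>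
    refine (map_add ((lvX o B).bD n i) a b).trans ?_
    rw [map_add, map_add]
    exact congrArg₂ (· + ·) ha hb

theorem hAct_one (n : ℕ) (z : c.Y.D.obj (op ⟨n⟩)) :
    hAct c B n (1 : (K208.pts c.H).pt B).ofConv z = 1 ⊗ₜ[k] z := by
  have h1 : ((1 : (K208.pts c.H).pt B).ofConv : c.H.O →ₐ[k] B).toLinearMap =
      (Algebra.linearMap k B) ∘ₗ (Coalgebra.counit (R := k) (A := c.H.O)) := rfl
  have h2 : (((Algebra.linearMap k B) ∘ₗ (Coalgebra.counit (R := k) (A := c.H.O))).lTensor (c.Y.D.obj (op ⟨n⟩)))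
      ((c.ρ ⟨n⟩).ρ z) = z ⊗ₜ[k] 1 := by
    rw [LinearMap.lTensor_comp_apply, (c.ρ ⟨n⟩).counit z, LinearMap.lTensor_tmul, Algebra.linearMap_apply, map_one]
  show TensorProduct.comm k (c.Y.D.obj (op ⟨n⟩)) B
    (((1 : (K208.pts c.H).pt B).ofConv : c.H.O →ₐ[k] B).toLinearMap.lTensor (c.Y.D.obj (op ⟨n⟩)) ((c.ρ ⟨n⟩).ρ z)) = _
  rw [h1, h2, TensorProduct.comm_tmul]

variable [Module.Flat k B]

/-- the arrows of the package over `B` -/
abbrev arX : LvArr o.P (LvB k A B) ((K208.pts c.H).pt B) := arB B o.lev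

/-- the arrow acts on `D` as the groupoid: on all of `BC` -/
theorem vtxD_act (n : ℕ) (i j : Fin (n + 1)) (v : BC (xp k A B n i) (c.Y.D.obj (op ⟨0⟩))) :
    vtxD c B n j (BC.map (xp k A B n j) o.iD.toLinearMap
      (o.X.eta.act (o.lev.ar B n i j 1) (BC.map (xp k A B n i) o.iD.symm.toLinearMap v))) = vtxD c B n i v := by
  induction v using BC.ind with
  | h0 => rw [map_zero, map_zero, map_zero, map_zero, map_zero]
  | h1 r d =>
    rw [map_smul, map_smul, map_smul, map_smulₛₗ, map_smulₛₗ]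
    congr 1
    refine (o.eta_match B n i j 1 d).trans ?_
    rw [hAct_one]
    have h2 : vtxD c B n i (bc (xp k A B n i) d) = 1 ⊗ₜ[k] rg c.Y.D (pt ⟨n⟩ i) d :=
      BC.lift_bc (x := xp k A B n i) (σ := lvD c B n) _ _ _
    exact h2.symm
  | h2 a b ha hb => rw [map_add, map_add, map_add, map_add, map_add, ha, hb]

/-- **`EtaMatch` gives 431's `EtaComp`** -/
theorem etaComp : EtaComp (h0B k A B) (hEB k A B) o.X (arX o B) (lvX o B) := by
  intro n i j d
  have h1 := bD_eq o B n j (o.X.eta.act (o.lev.ar B n i j 1) d)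
  have h2 := vtxD_act o B n i j (BC.map (xp k A B n i) o.iD.toLinearMap d)
  have h3 : BC.map (xp k A B n i) o.iD.symm.toLinearMap (BC.map (xp k A B n i) o.iD.toLinearMap d) = d := by
    rw [BC.map_map]
    have : (o.iD.symm.toLinearMap ∘ₗ o.iD.toLinearMap : o.X.D →ₗ[A.obj (op ⟨0⟩)] o.X.D) = LinearMap.id := by
      ext z
      exact o.iD.symm_apply_apply z
    rw [this, BC.map_id, LinearMap.id_apply]
  rw [h3] at h2
  exact (h1.trans h2).trans (bD_eq o B n i d).symm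

/-- **(AD2) for the output of the producer** -/
theorem H1_H2 {q : ℕ} (hq : 1 ≤ q) : (ts o.X (arX o B)).H1 q ∧ (ts o.X (arX o B)).H2 q :=
  H1_H2_of_algPkg (h0B k A B) (hEB k A B) o.X (arX o B) (etaComp o B) (isGal_B c.Y c.gal B) hq

/-- **gluing** -/
theorem glue : ∃ ψ ∈ o.X.L ((arX o B).arr 1 0 1 1), IsCocy (LvB k A B) ψ :=
  glueP o.X (arX o B) fun _ hq _ => (H1_H2 o B hq).2

/-- **equivariant lifts** -/
theorem lift {ψ : BC ((LvB k A B).x 1 0) o.X.K ≃ₗ[(LvB k A B).Rn 1] BC ((LvB k A B).x 1 1) o.X.K}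
    (hψ : ψ ∈ o.X.L ((arX o B).arr 1 0 1 1)) (hc : IsCocy (LvB k A B) ψ) (h : (K208.pts c.H).pt B) :
    ∃ g ∈ o.X.L ((arX o B).arr 0 0 0 h), Commutes (LvB k A B) ψ g :=
  liftP o.X (arX o B) (fun _ hq _ => (H1_H2 o B hq).1) hψ hc h

end Eta

end Groth.Agent.ResProp.EF.K172
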