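import Groth.Agent.ResProp.EF.K363.LevN
import Groth.Agent.ResProp.EF.K172.LevInst

/-!
# Gluing for the output of the producer (helper172)

* `H1_H2_arrB` : 363's hypotheses `h1`, `h2` of `glue_all` for `o : ALGOut c`;
* **`glueAll`** : ONE cocycle `ψ` over `B = k`, and for all flat `B` and `h ∈ H(B)` a lift commuting with `ψ_B`;

-/

set_option autoImplicit false
set_option linter.dupNamespace false

open CategoryTheory Opposite TensorProduct

noncomputable section

namespace Groth.Agent.ResProp.EF.K172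

open K784.BC K784.PM K741.RP EF56 K294 Grp Arch K980 K363

universe u

variable {k : Type u} [CommRing k] {A : NFᵒᵖ ⥤ CommRingCat.{u}} [GRF k A] {x : PrimeSpectrum (A.obj (op ⟨0⟩))}
  {c : CoverDatum k A x} (o : ALGOut c)

/-- **(AD2)** on 363's levels -/
theorem H1_H2_arrB (hA : GR A) (B : Type u) [CommRing B] [Algebra k B] [Module.Flat k B] {q : ℕ} (hq : 1 ≤ q) :
    (ts o.X (arrB o.lev hA B)).H1 q ∧ (ts o.X (arrB o.lev hA B)).H2 q :=
  H1_H2 o B hq

/-- **gluing for the output of the producer** -/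
theorem glueAll (hA : GR A) :
    ∃ ψ : BC ((lvB k hA k).x 1 0) o.X.K ≃ₗ[(lvB k hA k).Rn 1] BC ((lvB k hA k).x 1 1) o.X.K,
      IsCocy (lvB k hA k) ψ ∧
      ∀ (B : Type u) [CommRing B] [Algebra k B] [Module.Flat k B],
        psiB hA o.X.K ψ B ∈ o.X.L (o.lev.ar B 1 0 1 1) ∧ IsCocy (lvB k hA B) (psiB hA o.X.K ψ B) ∧
        ∀ h : (K208.pts c.H).pt B, ∃ g ∈ o.X.L (o.lev.ar B 0 0 0 h), Commutes (lvB k hA B) (psiB hA o.X.K ψ B) g :=
  glue_all o.X o.lev hA (fun B _ _ _ _ hq _ => (H1_H2_arrB o hA B hq).1) (fun _ hq _ => (H1_H2_arrB o hA k hq).2)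

end Groth.Agent.ResProp.EF.K172
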