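import Groth.Agent.ResProp.EF.K980.BC
import Groth.Agent.StMod.K784.BC3

/-!
# Base change of operator filtrations and of their graded pieces (S16912, AD1 / AD2)

On top of `K980.BC`.  `isBC_bc`, `isBC_tr`: the maps `bc x`, `tr f` are base changes.  For an `R`-submodule `D` of
`End_R K`: `DX x D` is the image of `BC x D` in `End_R' (BC x K)`.  For `D₁ ≤ D₀` and `BC x D₀` embedded: `cls x` is the
class map `DX x D₀ → BC x (D₀ / D₁)`, onto with kernel `DX x D₁`, natural under `pull` / `tr`.  `cj ψ` is the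
isomorphism `BC x (D₀ / D₁) = BC y (D₀ / D₁)` induced by the conjugation with `ψ : BC x K ≃ BC y K`.
-/

set_option autoImplicit false
set_option linter.dupNamespace false

open K784.BC

namespace Groth.Agent.ResProp.EF.K172

open Groth.Agent.ResProp.EF.K980

universe u v w w₁ w₂

section isBC

variable {R : Type u} {R' : Type v} {R'' : Type w} [CommRing R] [CommRing R'] [CommRing R'']
  {M : Type w₁} [AddCommGroup M] [Module R M]

/-- `bc x : M → BC x M` is a base change. -/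
theorem isBC_bc (x : R →+* R') : IsBC x (bc x : M →ₛₗ[x] BC x M).toAddMonoidHom := by
  refine IsBC.of_lift (fun a m => (bc x : M →ₛₗ[x] BC x M).map_smulₛₗ a m) fun Q _ _ g hg => ?_
  let φ : M →ₛₗ[x] Q := { toFun := g, map_add' := g.map_add, map_smul' := hg }
  have h1 : ∀ m, BC.lift (σ := RingHom.id R') (τ := x) (RingHom.id_comp x) φ (bc x m) = g m :=
    fun m => BC.lift_bc _ φ m
  exact ⟨BC.lift (σ := RingHom.id R') (τ := x) (RingHom.id_comp x) φ, h1, fun g' hg' =>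
    BC.hom_ext fun m => (hg' m).trans (h1 m).symm⟩

/-- `tr f : BC x M → BC x' M` is a base change. -/
theorem isBC_tr {x : R →+* R'} {x' : R →+* R''} {f : R' →+* R''} (hx : f.comp x = x') :
    IsBC f (BC.tr f hx : BC x M →ₛₗ[f] BC x' M).toAddMonoidHom := by
  refine IsBC.of_lift (fun a m => (BC.tr f hx : BC x M →ₛₗ[f] BC x' M).map_smulₛₗ a m) fun Q _ _ g hg => ?_
  let φ : M →ₛₗ[x'] Q :=
    { toFun := fun m => g (bc x m)
      map_add' := fun a b => by rw [map_add, map_add]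
      map_smul' := fun r m => by rw [LinearMap.map_smulₛₗ, hg, ← hx]; rfl }
  have h1 : ∀ m, BC.lift (σ := RingHom.id R'') (τ := x') (RingHom.id_comp x') φ (bc x' m) = g (bc x m) :=
    fun m => BC.lift_bc _ φ m
  refine ⟨BC.lift (σ := RingHom.id R'') (τ := x') (RingHom.id_comp x') φ, fun m => ?_, fun g' hg' => ?_⟩
  · induction m using BC.ind with
    | h0 => exact (map_zero _).trans (map_zero _).symm
    | h1 r m =>
      show BC.lift _ _ (BC.tr f hx (r • bc x m)) = g (r • bc x m)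
      rw [LinearMap.map_smulₛₗ, BC.tr_bc, LinearMap.map_smul, h1, hg]
    | h2 a b ha hb =>
      show BC.lift _ _ (BC.tr f hx (a + b)) = g (a + b)
      rw [map_add, map_add, map_add]
      exact congrArg₂ _ ha hb
  · refine BC.hom_ext fun m => ?_
    rw [h1, ← hg' (bc x m)]
    exact congrArg g' (BC.tr_bc hx m).symm

end isBC

section DX

variable {R : Type u} {R' : Type v} {R'' : Type w} [CommRing R] [CommRing R'] [CommRing R'']
  {K : Type w₁} [AddCommGroup K] [Module R K]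

/-- the canonical map `BC x D → End (BC x K)` for a module `D` of operators. -/
def ev (x : R →+* R') (D : Submodule R (K →ₗ[R] K)) : BC x D →ₗ[R'] (BC x K →ₗ[R'] BC x K) :=
  BC.emb x ∘ₗ BC.map x D.subtype

@[simp] theorem ev_bc (x : R →+* R') (D : Submodule R (K →ₗ[R] K)) (L : D) :
    ev x D (bc x L) = BC.map x (L : K →ₗ[R] K) := by
  show BC.emb x (BC.map x D.subtype (bc x L)) = _
  rw [BC.map_bc, BC.emb_bc]
  rfl

/-- the base change of a module of operators, inside the operators on the base change. -/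
def DX (x : R →+* R') (D : Submodule R (K →ₗ[R] K)) : Submodule R' (BC x K →ₗ[R'] BC x K) :=
  LinearMap.range (ev x D)

theorem ev_mem (x : R →+* R') (D : Submodule R (K →ₗ[R] K)) (z : BC x D) : ev x D z ∈ DX x D := ⟨z, rfl⟩

theorem map_mem (x : R →+* R') {D : Submodule R (K →ₗ[R] K)} {L : K →ₗ[R] K} (hL : L ∈ D) : BC.map x L ∈ DX x D :=
  ⟨bc x ⟨L, hL⟩, ev_bc x D _⟩

theorem DX_eq_span (x : R →+* R') (D : Submodule R (K →ₗ[R] K)) :
    DX x D = Submodule.span R' {T | ∃ L ∈ D, T = BC.map x L} := by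
  rw [DX, LinearMap.range_eq_map, ← BC.span_bc, Submodule.map_span]
  congr 1
  ext T
  constructor
  · rintro ⟨_, ⟨L, rfl⟩, rfl⟩
    exact ⟨L, L.2, ev_bc x D L⟩
  · rintro ⟨L, hL, rfl⟩
    exact ⟨_, ⟨⟨L, hL⟩, rfl⟩, ev_bc x D _⟩

theorem DX_mono (x : R →+* R') {D₁ D₀ : Submodule R (K →ₗ[R] K)} (h : D₁ ≤ D₀) : DX x D₁ ≤ DX x D₀ := by
  rw [DX_eq_span, DX_eq_span]
  exact Submodule.span_mono fun T ⟨L, hL, e⟩ => ⟨L, h hL, e⟩

theorem ev_inclusion (x : R →+* R') {D₁ D₀ : Submodule R (K →ₗ[R] K)} (h : D₁ ≤ D₀) (z : BC x D₁) :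
    ev x D₀ (BC.map x (Submodule.inclusion h) z) = ev x D₁ z := by
  induction z using BC.ind with
  | h0 => simp
  | h1 r m => simp
  | h2 a b ha hb => rw [map_add, map_add, map_add, ha, hb]

/-- operators pull back. -/
theorem pull_ev {x : R →+* R'} {x' : R →+* R''} {f : R' →+* R''} (hx : f.comp x = x') (D : Submodule R (K →ₗ[R] K))
    (z : BC x D) : BC.pull f hx hx (ev x D z) = ev x' D (BC.tr f hx z) := by
  induction z using BC.ind with
  | h0 => rw [map_zero, map_zero, map_zero, BC.pull_zero]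
  | h1 r m =>
    rw [LinearMap.map_smul, LinearMap.map_smulₛₗ, LinearMap.map_smul, BC.pull_smul, BC.tr_bc, ev_bc, ev_bc, BC.pull_map]
  | h2 a b ha hb => rw [map_add, map_add, map_add, BC.pull_add, ha, hb]

theorem pull_mem {x : R →+* R'} {x' : R →+* R''} {f : R' →+* R''} (hx : f.comp x = x') {D : Submodule R (K →ₗ[R] K)}
    {T : BC x K →ₗ[R'] BC x K} (hT : T ∈ DX x D) : BC.pull f hx hx T ∈ DX x' D := by
  obtain ⟨z, rfl⟩ := hT
  exact ⟨BC.tr f hx z, (pull_ev hx D z).symm⟩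

/-- the graded piece `D₀ / D₁`. -/
abbrev Gr (D₀ D₁ : Submodule R (K →ₗ[R] K)) : Type _ := D₀ ⧸ D₁.submoduleOf D₀

variable {D₀ D₁ : Submodule R (K →ₗ[R] K)}

/-- the class map `D₀ → D₀ / D₁`. -/
def mkG (D₀ D₁ : Submodule R (K →ₗ[R] K)) : D₀ →ₗ[R] Gr D₀ D₁ := (D₁.submoduleOf D₀).mkQ

/-- `BC x D₀` is embedded. -/
def Inj (x : R →+* R') (D : Submodule R (K →ₗ[R] K)) : Prop := Function.Injective (ev x D)

/-- the inverse of `BC x D ≃ DX x D`. -/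
noncomputable def coef (x : R →+* R') (D : Submodule R (K →ₗ[R] K)) (h : Inj x D) : DX x D ≃ₗ[R'] BC x D :=
  (LinearEquiv.ofInjective (ev x D) h).symm

theorem ev_coef (x : R →+* R') (D : Submodule R (K →ₗ[R] K)) (h : Inj x D) (T : DX x D) : ev x D (coef x D h T) = T :=
  congrArg Subtype.val ((LinearEquiv.ofInjective (ev x D) h).apply_symm_apply T)

theorem coef_ev (x : R →+* R') (D : Submodule R (K →ₗ[R] K)) (h : Inj x D) (z : BC x D) :
    coef x D h ⟨ev x D z, ev_mem x D z⟩ = z := (LinearEquiv.ofInjective (ev x D) h).symm_apply_apply z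

/-- the class of an operator in `BC x (D₀ / D₁)`. -/
noncomputable def cls (x : R →+* R') (D₀ D₁ : Submodule R (K →ₗ[R] K)) (h : Inj x D₀) :
    DX x D₀ →ₗ[R'] BC x (Gr D₀ D₁) := BC.map x (mkG D₀ D₁) ∘ₗ (coef x D₀ h).toLinearMap

theorem cls_ev (x : R →+* R') (h : Inj x D₀) (z : BC x D₀) :
    cls x D₀ D₁ h ⟨ev x D₀ z, ev_mem x D₀ z⟩ = BC.map x (mkG D₀ D₁) z := by
  show BC.map x (mkG D₀ D₁) (coef x D₀ h _) = _
  rw [coef_ev]

theorem cls_surjective (x : R →+* R') (h : Inj x D₀) : Function.Surjective (cls x D₀ D₁ h) := fun y => by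
  obtain ⟨z, hz⟩ := BC.map_surjective (x := x) (g := mkG D₀ D₁) (Submodule.mkQ_surjective _) y
  exact ⟨⟨ev x D₀ z, ev_mem x D₀ z⟩, (cls_ev x h z).trans hz⟩

theorem exact_mkG (hD : D₁ ≤ D₀) : Function.Exact (Submodule.inclusion hD) (mkG D₀ D₁) := by
  intro L
  show (Submodule.Quotient.mk L : Gr D₀ D₁) = 0 ↔ _
  rw [Submodule.Quotient.mk_eq_zero]
  constructor
  · intro hL
    exact ⟨⟨L.1, hL⟩, rfl⟩
  · rintro ⟨M, rfl⟩
    exact M.2

theorem cls_eq_zero_iff (x : R →+* R') (hD : D₁ ≤ D₀) (h : Inj x D₀) (T : DX x D₀) :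
    cls x D₀ D₁ h T = 0 ↔ (T : BC x K →ₗ[R'] BC x K) ∈ DX x D₁ := by
  have h1 := BC.map_exact (x := x) (exact_mkG hD) (Submodule.mkQ_surjective _) (coef x D₀ h T)
  refine h1.trans ?_
  constructor
  · rintro ⟨z, hz⟩
    refine ⟨z, ?_⟩
    rw [← ev_inclusion x hD z, hz, ev_coef]
  · rintro ⟨z, hz⟩
    refine ⟨z, h ?_⟩
    rw [ev_inclusion, hz, ev_coef]

theorem cls_congr (x : R →+* R') (h : Inj x D₀) {T S : DX x D₀}
    (e : (T : BC x K →ₗ[R'] BC x K) = S) : cls x D₀ D₁ h T = cls x D₀ D₁ h S := by rw [Subtype.ext e]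

/-- the class map and pull-back. -/
theorem cls_pull {x : R →+* R'} {x' : R →+* R''} {f : R' →+* R''} (hx : f.comp x = x') (h : Inj x D₀) (h' : Inj x' D₀)
    (T : DX x D₀) : cls x' D₀ D₁ h' ⟨BC.pull f hx hx T, pull_mem hx T.2⟩ = BC.tr f hx (cls x D₀ D₁ h T) := by
  obtain ⟨T, z, rfl⟩ := T
  refine (cls_congr x' h' (S := ⟨ev x' D₀ (BC.tr f hx z), ev_mem _ _ _⟩) (pull_ev hx D₀ z)).trans ?_
  rw [cls_ev]
  have h1 : cls x D₀ D₁ h ⟨ev x D₀ z, ⟨z, rfl⟩⟩ = BC.map x (mkG D₀ D₁) z := cls_ev x h z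
  rw [h1]
  exact (BC.tr_map hx _ z).symm

/-! ### conjugation -/

section cj

variable {x y z : R →+* R'} {x' y' z' : R →+* R''} {f : R' →+* R''}

/-- conjugation with `ψ : BC x K ≃ BC y K`. -/
def conj (ψ : BC x K ≃ₗ[R'] BC y K) : (BC x K →ₗ[R'] BC x K) ≃ₗ[R'] (BC y K →ₗ[R'] BC y K) :=
  LinearEquiv.conj ψ

theorem conj_apply (ψ : BC x K ≃ₗ[R'] BC y K) (T : BC x K →ₗ[R'] BC x K) (m : BC y K) :
    conj ψ T m = ψ (T (ψ.symm m)) := rfl

theorem conj_comp (ψ : BC x K ≃ₗ[R'] BC y K) (T S : BC x K →ₗ[R'] BC x K) :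
    conj ψ (T ∘ₗ S) = conj ψ T ∘ₗ conj ψ S := by
  ext m
  simp [conj_apply]

theorem conj_trans (ψ : BC x K ≃ₗ[R'] BC y K) (χ : BC y K ≃ₗ[R'] BC z K) (T : BC x K →ₗ[R'] BC x K) :
    conj (ψ.trans χ) T = conj χ (conj ψ T) := rfl

theorem conj_symm (ψ : BC x K ≃ₗ[R'] BC y K) : (conj ψ).symm = conj ψ.symm := rfl

theorem conj_symm_conj (ψ : BC x K ≃ₗ[R'] BC y K) (T : BC x K →ₗ[R'] BC x K) : conj ψ.symm (conj ψ T) = T :=
  (conj ψ).symm_apply_apply T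

theorem pull_conj (hx : f.comp x = x') (hy : f.comp y = y') (ψ : BC x K ≃ₗ[R'] BC y K) (T : BC x K →ₗ[R'] BC x K) :
    BC.pull f hy hy (conj ψ T) = conj (BC.pullE f hx hy ψ) (BC.pull f hx hx T) := by
  refine BC.hom_ext_tr hy fun m => ?_
  rw [BC.pull_tr, conj_apply, conj_apply, BC.pullE_symm, BC.pullE_tr, BC.pull_tr, BC.pullE_tr]

/-- `ψ` carries the operators `D` at `x` to the operators `D` at `y`. -/
def Pres (ψ : BC x K ≃ₗ[R'] BC y K) (D : Submodule R (K →ₗ[R] K)) : Prop :=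
  (∀ T ∈ DX x D, conj ψ T ∈ DX y D) ∧ ∀ T ∈ DX y D, conj ψ.symm T ∈ DX x D

theorem Pres.symm {ψ : BC x K ≃ₗ[R'] BC y K} {D : Submodule R (K →ₗ[R] K)} (h : Pres ψ D) : Pres ψ.symm D :=
  ⟨h.2, h.1⟩

theorem Pres.trans {ψ : BC x K ≃ₗ[R'] BC y K} {χ : BC y K ≃ₗ[R'] BC z K} {D : Submodule R (K →ₗ[R] K)}
    (h : Pres ψ D) (h' : Pres χ D) : Pres (ψ.trans χ) D :=
  ⟨fun T hT => h'.1 _ (h.1 T hT), fun T hT => h.2 _ (h'.2 T hT)⟩

theorem Pres.refl (x : R →+* R') (D : Submodule R (K →ₗ[R] K)) : Pres (LinearEquiv.refl R' (BC x K)) D :=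
  ⟨fun _ hT => hT, fun _ hT => hT⟩

theorem Pres.pull (hx : f.comp x = x') (hy : f.comp y = y') {ψ : BC x K ≃ₗ[R'] BC y K}
    {D : Submodule R (K →ₗ[R] K)} (h : Pres ψ D) : Pres (BC.pullE f hx hy ψ) D := by
  have key : ∀ {x y : R →+* R'} {x' y' : R →+* R''} (hx : f.comp x = x') (hy : f.comp y = y')
      (ψ : BC x K ≃ₗ[R'] BC y K), (∀ T ∈ DX x D, conj ψ T ∈ DX y D) →
      ∀ T ∈ DX x' D, conj (BC.pullE f hx hy ψ) T ∈ DX y' D := by
    intro x y x' y' hx hy ψ h T hT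
    rw [DX_eq_span] at hT
    induction hT using Submodule.span_induction with
    | mem T hT =>
      obtain ⟨L, hL, rfl⟩ := hT
      rw [← BC.pull_map hx L, ← pull_conj hx hy]
      exact pull_mem hy (h _ (map_mem x hL))
    | zero => rw [map_zero]; exact zero_mem _
    | add a b _ _ ha hb => rw [map_add]; exact add_mem ha hb
    | smul r a _ ha => rw [map_smul]; exact Submodule.smul_mem _ _ ha
  exact ⟨key hx hy ψ h.1, by
    rw [BC.pullE_symm]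
    exact key hy hx ψ.symm h.2⟩

/-- conjugation restricted to the operators `D`. -/
def conjD (ψ : BC x K ≃ₗ[R'] BC y K) {D : Submodule R (K →ₗ[R] K)} (h : Pres ψ D) : DX x D →ₗ[R'] DX y D where
  toFun T := ⟨conj ψ T, h.1 T T.2⟩
  map_add' T S := Subtype.ext (map_add (conj ψ) T.1 S.1)
  map_smul' r T := Subtype.ext (map_smul (conj ψ) r T.1)

@[simp] theorem conjD_coe (ψ : BC x K ≃ₗ[R'] BC y K) {D : Submodule R (K →ₗ[R] K)} (h : Pres ψ D) (T : DX x D) :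
    (conjD ψ h T : BC y K →ₗ[R'] BC y K) = conj ψ T := rfl

theorem exists_cj (ψ : BC x K ≃ₗ[R'] BC y K) (hD : D₁ ≤ D₀) (ix : Inj x D₀) (iy : Inj y D₀) (h0 : Pres ψ D₀)
    (h1 : Pres ψ D₁) : ∃ g : BC x (Gr D₀ D₁) →ₗ[R'] BC y (Gr D₀ D₁),
      ∀ T : DX x D₀, g (cls x D₀ D₁ ix T) = cls y D₀ D₁ iy (conjD ψ h0 T) := by
  let c := cls x D₀ D₁ ix
  let d : DX x D₀ →ₗ[R'] BC y (Gr D₀ D₁) := cls y D₀ D₁ iy ∘ₗ conjD ψ h0
  have hk : LinearMap.ker c ≤ LinearMap.ker d := fun T hT => by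
    rw [LinearMap.mem_ker] at hT ⊢
    exact (cls_eq_zero_iff y hD iy _).2 (h1.1 _ ((cls_eq_zero_iff x hD ix T).1 hT))
  refine ⟨(LinearMap.ker c).liftQ d hk ∘ₗ (c.quotKerEquivOfSurjective (cls_surjective x ix)).symm.toLinearMap,
    fun T => ?_⟩
  show (LinearMap.ker c).liftQ d hk ((c.quotKerEquivOfSurjective (cls_surjective x ix)).symm (c T)) = _
  rw [LinearMap.quotKerEquivOfSurjective_symm_apply]
  rfl

/-- the map of graded pieces induced by the conjugation with `ψ`. -/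
noncomputable def cj (ψ : BC x K ≃ₗ[R'] BC y K) (hD : D₁ ≤ D₀) (ix : Inj x D₀) (iy : Inj y D₀) (h0 : Pres ψ D₀)
    (h1 : Pres ψ D₁) : BC x (Gr D₀ D₁) →ₗ[R'] BC y (Gr D₀ D₁) := (exists_cj ψ hD ix iy h0 h1).choose

theorem cj_cls (ψ : BC x K ≃ₗ[R'] BC y K) (hD : D₁ ≤ D₀) (ix : Inj x D₀) (iy : Inj y D₀) (h0 : Pres ψ D₀)
    (h1 : Pres ψ D₁) (T : DX x D₀) :
    cj ψ hD ix iy h0 h1 (cls x D₀ D₁ ix T) = cls y D₀ D₁ iy (conjD ψ h0 T) :=
  (exists_cj ψ hD ix iy h0 h1).choose_spec T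

/-- two maps which agree on classes are equal. -/
theorem eq_of_cls (ix : Inj x D₀) {N : Type*} [AddCommGroup N] {g g' : BC x (Gr D₀ D₁) → N}
    (h : ∀ T : DX x D₀, g (cls x D₀ D₁ ix T) = g' (cls x D₀ D₁ ix T)) : g = g' :=
  funext fun m => by
    obtain ⟨T, rfl⟩ := cls_surjective x ix m
    exact h T

theorem cj_trans (ψ : BC x K ≃ₗ[R'] BC y K) (χ : BC y K ≃ₗ[R'] BC z K) (hD : D₁ ≤ D₀) (ix : Inj x D₀)
    (iy : Inj y D₀) (iz : Inj z D₀) (h0 : Pres ψ D₀) (h1 : Pres ψ D₁) (h0' : Pres χ D₀) (h1' : Pres χ D₁)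
    (m : BC x (Gr D₀ D₁)) :
    cj (ψ.trans χ) hD ix iz (h0.trans h0') (h1.trans h1') m = cj χ hD iy iz h0' h1' (cj ψ hD ix iy h0 h1 m) := by
  obtain ⟨T, rfl⟩ := cls_surjective x ix m
  rw [cj_cls, cj_cls, cj_cls]
  rfl

theorem cj_refl (hD : D₁ ≤ D₀) (ix : Inj x D₀) (h0 : Pres (LinearEquiv.refl R' (BC x K)) D₀)
    (h1 : Pres (LinearEquiv.refl R' (BC x K)) D₁) (m : BC x (Gr D₀ D₁)) :
    cj (LinearEquiv.refl R' (BC x K)) hD ix ix h0 h1 m = m := by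
  obtain ⟨T, rfl⟩ := cls_surjective x ix m
  rw [cj_cls]
  rfl

theorem cj_symm_cj (ψ : BC x K ≃ₗ[R'] BC y K) (hD : D₁ ≤ D₀) (ix : Inj x D₀) (iy : Inj y D₀) (h0 : Pres ψ D₀)
    (h1 : Pres ψ D₁) (m : BC x (Gr D₀ D₁)) :
    cj ψ.symm hD iy ix h0.symm h1.symm (cj ψ hD ix iy h0 h1 m) = m := by
  obtain ⟨T, rfl⟩ := cls_surjective x ix m
  rw [cj_cls, cj_cls]
  exact cls_congr x ix (conj_symm_conj ψ T.1)

theorem cj_bijective (ψ : BC x K ≃ₗ[R'] BC y K) (hD : D₁ ≤ D₀) (ix : Inj x D₀) (iy : Inj y D₀) (h0 : Pres ψ D₀)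
    (h1 : Pres ψ D₁) : Function.Bijective (cj ψ hD ix iy h0 h1) :=
  Function.bijective_iff_has_inverse.2 ⟨cj ψ.symm hD iy ix h0.symm h1.symm, cj_symm_cj ψ hD ix iy h0 h1,
    cj_symm_cj ψ.symm hD iy ix h0.symm h1.symm⟩

/-- conjugation and further base change. -/
theorem cj_pull (hx : f.comp x = x') (hy : f.comp y = y') (ψ : BC x K ≃ₗ[R'] BC y K) (hD : D₁ ≤ D₀) (ix : Inj x D₀)
    (iy : Inj y D₀) (ix' : Inj x' D₀) (iy' : Inj y' D₀) (h0 : Pres ψ D₀) (h1 : Pres ψ D₁)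
    (h0' : Pres (BC.pullE f hx hy ψ) D₀) (h1' : Pres (BC.pullE f hx hy ψ) D₁) (m : BC x (Gr D₀ D₁)) :
    cj (BC.pullE f hx hy ψ) hD ix' iy' h0' h1' (BC.tr f hx m) = BC.tr f hy (cj ψ hD ix iy h0 h1 m) := by
  obtain ⟨T, rfl⟩ := cls_surjective x ix m
  rw [cj_cls, ← cls_pull hx ix ix', cj_cls, ← cls_pull hy iy iy']
  exact cls_congr y' iy' (pull_conj hx hy ψ T.1).symm

/-- `cj ψ` depends only on the class of `ψ` modulo operators which act trivially. -/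
theorem cj_eq (ψ χ : BC x K ≃ₗ[R'] BC y K) (hD : D₁ ≤ D₀) (ix : Inj x D₀) (iy : Inj y D₀) (h0 : Pres ψ D₀)
    (h1 : Pres ψ D₁) (h0' : Pres χ D₀) (h1' : Pres χ D₁)
    (h : ∀ T ∈ DX x D₀, conj ψ T - conj χ T ∈ DX y D₁) (m : BC x (Gr D₀ D₁)) :
    cj ψ hD ix iy h0 h1 m = cj χ hD ix iy h0' h1' m := by
  obtain ⟨T, rfl⟩ := cls_surjective x ix m
  rw [cj_cls, cj_cls, ← sub_eq_zero, ← map_sub]
  exact (cls_eq_zero_iff y hD iy _).2 (h T.1 T.2)

end cj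

end DX

end Groth.Agent.ResProp.EF.K172
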