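import Groth.Agent.ResProp.EF.K477.TensB

/-!
# The levels `n ↦ B ⊗[k] F⟨n⟩` with the instance `k`-algebra structures (helper172)

`lvF k F hF B`, `lvIncl : F ⟶ lvF`, `isTens_lvF`, `cartHom_lvIncl`, `gr_lvF`, `po_lv` and `cartHom_lvMap` (a cartesian
morphism stays cartesian), `gal_lvF`.
-/

set_option autoImplicit false
set_option linter.dupNamespace false

open CategoryTheory Opposite TensorProduct

noncomputable section

namespace Groth.Agent.ResProp.EF.K172

open K784.BC K784.PM K741.RP EF56 K477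

universe u

section Gen

variable (k : Type u) [CommRing k] (F : NFᵒᵖ ⥤ CommRingCat.{u}) [∀ a : NF, Algebra k (F.obj (op a))]

/-- the structure maps are `k`-linear -/
def KLin : Prop := ∀ {a b : NF} (φ : a ⟶ b) (r : k),
  rg F φ (algebraMap k (F.obj (op b)) r) = algebraMap k (F.obj (op a)) r

variable {F} (hF : KLin k F)

/-- the structure maps as algebra homomorphisms -/
def rF {a b : NF} (φ : a ⟶ b) : F.obj (op b) →ₐ[k] F.obj (op a) := { rg F φ with commutes' := fun r => hF φ r }

theorem rF_apply {a b : NF} (φ : a ⟶ b) (z : F.obj (op b)) : rF k hF φ z = rg F φ z := rfl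

variable (B : Type u) [CommRing B] [Algebra k B]

/-- `n ↦ B ⊗[k] F⟨n⟩` -/
def lvF : NFᵒᵖ ⥤ CommRingCat.{u} where
  obj a := CommRingCat.of (B ⊗[k] F.obj (op a.unop))
  map φ := CommRingCat.ofHom (Algebra.TensorProduct.map (AlgHom.id k B) (rF k hF φ.unop)).toRingHom
  map_id a := by
    refine congrArg CommRingCat.ofHom ?_
    have h : rF k hF (𝟙 a : a ⟶ a).unop = AlgHom.id k _ := by
      ext z
      exact congr($(rg_id F a.unop) z)
    rw [h, Algebra.TensorProduct.map_id]
    rfl
  map_comp {a b c} φ ψ := by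
    rw [← CommRingCat.ofHom_comp]
    refine congrArg CommRingCat.ofHom ?_
    have h : rF k hF (φ ≫ ψ).unop = (rF k hF ψ.unop).comp (rF k hF φ.unop) := by
      ext z
      exact congr($(rg_comp F ψ.unop φ.unop) z)
    rw [h]
    refine RingHom.ext fun z => ?_
    show Algebra.TensorProduct.map (AlgHom.id k B) ((rF k hF ψ.unop).comp (rF k hF φ.unop)) z =
      Algebra.TensorProduct.map (AlgHom.id k B) (rF k hF ψ.unop)
        (Algebra.TensorProduct.map (AlgHom.id k B) (rF k hF φ.unop) z)
    rw [← AlgHom.comp_apply, ← Algebra.TensorProduct.map_comp]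
    rfl

theorem rg_lvF {a b : NF} (φ : a ⟶ b) : rg (lvF k hF B) φ =
    (Algebra.TensorProduct.map (AlgHom.id k B) (rF k hF φ)).toRingHom := rfl

theorem rg_lvF_tmul {a b : NF} (φ : a ⟶ b) (x : B) (z : F.obj (op b)) :
    rg (lvF k hF B) φ (x ⊗ₜ[k] z) = x ⊗ₜ[k] rg F φ z := rfl

/-- `F⟨n⟩ → B ⊗ F⟨n⟩` -/
def inF (a : NF) : F.obj (op a) →+* (lvF k hF B).obj (op a) :=
  (Algebra.TensorProduct.includeRight (R := k) (A := B) (B := F.obj (op a))).toRingHom

/-- `B → B ⊗ F⟨n⟩` -/
def inB (a : NF) : B →+* (lvF k hF B).obj (op a) :=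
  (Algebra.TensorProduct.includeLeftRingHom : B →+* B ⊗[k] F.obj (op a))

/-- `F ⟶ B ⊗ F` -/
def lvIncl : F ⟶ lvF k hF B where
  app a := CommRingCat.ofHom (inF k hF B a.unop)
  naturality {a c} φ := by
    refine congrArg CommRingCat.ofHom ?_
    refine RingHom.ext fun z => ?_
    rfl

theorem isTens_lvF : IsTens (fun a => algebraMap k (F.obj (op a))) (algebraMap k B) (lvIncl k hF B) (inB k hF B) where
  kk_nat φ := by
    refine RingHom.ext fun r => ?_
    exact hF φ r
  b_nat φ := by
    refine RingHom.ext fun x => ?_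
    show x ⊗ₜ[k] rg F φ 1 = x ⊗ₜ[k] 1
    rw [map_one]
  po a := (CommRingCat.isPushout_tensorProduct k B (F.obj (op a))).flip

theorem cartHom_lvIncl : CartHom (lvIncl k hF B) := (isTens_lvF k hF B).cartHom

theorem gr_lvF (h : GR F) : GR (lvF k hF B) := (isTens_lvF k hF B).gr h

theorem inF_flat [Module.Flat k B] (a : NF) : (inF k hF B a).Flat := by
  have h : IsPO (algebraMap k (F.obj (op a))) (algebraMap k B) (inF k hF B a) (inB k hF B a) := (isTens_lvF k hF B).po a
  refine IsPO.flat h.flip ?_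
  rw [RingHom.flat_algebraMap_iff]
  infer_instance

end Gen

section Map

variable (k : Type u) [CommRing k] {F G : NFᵒᵖ ⥤ CommRingCat.{u}} [∀ a : NF, Algebra k (F.obj (op a))]
  [∀ a : NF, Algebra k (G.obj (op a))] (hF : KLin k F) (hG : KLin k G) (j : F ⟶ G)
  (hj : ∀ (a : NF) (r : k), (j.app (op a)).hom (algebraMap k (F.obj (op a)) r) = algebraMap k (G.obj (op a)) r)
  (B : Type u) [CommRing B] [Algebra k B]

/-- the components of `j` as algebra homomorphisms -/
def jF (a : NF) : F.obj (op a) →ₐ[k] G.obj (op a) := { (j.app (op a)).hom with commutes' := fun r => hj a r }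

/-- `B ⊗ j` -/
def lvMap : lvF k hF B ⟶ lvF k hG B where
  app a := CommRingCat.ofHom (Algebra.TensorProduct.map (AlgHom.id k B) (jF k j hj a.unop)).toRingHom
  naturality {a c} φ := by
    have h : (jF k j hj c.unop).comp (rF k hF φ.unop) = (rF k hG φ.unop).comp (jF k j hj a.unop) := by
      ext z
      exact congr($(j.naturality φ).hom z)
    refine congrArg CommRingCat.ofHom (RingHom.ext fun z => ?_)
    show Algebra.TensorProduct.map (AlgHom.id k B) (jF k j hj c.unop)
        (Algebra.TensorProduct.map (AlgHom.id k B) (rF k hF φ.unop) z) =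
      Algebra.TensorProduct.map (AlgHom.id k B) (rF k hG φ.unop)
        (Algebra.TensorProduct.map (AlgHom.id k B) (jF k j hj a.unop) z)
    rw [← AlgHom.comp_apply, ← AlgHom.comp_apply, ← Algebra.TensorProduct.map_comp, ← Algebra.TensorProduct.map_comp, h]

theorem lvMap_apply (a : NF) : ((lvMap k hF hG j hj B).app (op a)).hom =
    (Algebra.TensorProduct.map (AlgHom.id k B) (jF k j hj a)).toRingHom := rfl

/-- `F⟨a⟩ → G⟨a⟩`, base changed to `B` -/
theorem po_lvMap (a : NF) : IsPO (j.app (op a)).hom (inF k hF B a) (inF k hG B a)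
    ((lvMap k hF hG j hj B).app (op a)).hom := by
  have h1 : IsPO (algebraMap k (F.obj (op a))) (algebraMap k B) (inF k hF B a) (inB k hF B a) := (isTens_lvF k hF B).po a
  have h2 : IsPO (algebraMap k (G.obj (op a))) (algebraMap k B) (inF k hG B a) (inB k hG B a) := (isTens_lvF k hG B).po a
  have h3 : (j.app (op a)).hom.comp (algebraMap k (F.obj (op a))) = algebraMap k (G.obj (op a)) :=
    RingHom.ext fun r => hj a r
  have h4 : ((lvMap k hF hG j hj B).app (op a)).hom.comp (inB k hF B a) = inB k hG B a := by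
    refine RingHom.ext fun x => ?_
    show x ⊗ₜ[k] (j.app (op a)).hom 1 = x ⊗ₜ[k] 1
    rw [map_one]
  refine IsPO.cancel h1 ?_ ?_
  · rw [h3, h4]
    exact h2
  · rfl

theorem cartHom_lvMap (hc : CartHom j) : CartHom (lvMap k hF hG j hj B) := by
  intro a b φ
  refine IsPO.cube (hc φ) (po_lvMap k hF hG j hj B b) (po_lvMap k hF hG j hj B a) ?_ ?_ ?_
  · exact RingHom.ext fun z => rfl
  · exact RingHom.ext fun z => rfl
  · exact (congrArg CommRingCat.Hom.hom ((lvMap k hF hG j hj B).naturality φ.op)).symm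

end Map

end Groth.Agent.ResProp.EF.K172
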