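import Groth.Agent.ResProp.EF.K980.Nodes
import Groth.Agent.ResProp.EF.K431.AD2
import Groth.Agent.ResProp.EF.K172.LvF

/-!
# The levels of 980's Nodes.lean as 363's LvRing / LvArr, and the levels of an affine stack over `A` (helper172)
-/

set_option autoImplicit false
set_option linter.dupNamespace false

open CategoryTheory Opposite TensorProduct

noncomputable section

namespace Groth.Agent.ResProp.EF.K172

open K784.BC K784.PM K741.RP EF56 K294 Grp Arch K980 K363 K431 K477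

universe u

section Lv

variable {k : Type u} [CommRing k] {A : NFᵒᵖ ⥤ CommRingCat.{u}} [GRF k A]

theorem klinA : KLin k A := fun φ r => GRF.map_k φ r

theorem klinD (Y : AffOver A) : KLin k Y.D := fun φ r => (Y.rk (k := k) φ).commutes r

variable (k A) (B : Type u) [CommRing B] [Algebra k B]

/-- the rings of the levels -/
abbrev EB : NFᵒᵖ ⥤ CommRingCat.{u} := lvF k (klinA (k := k) (A := A)) B

/-- `A ⟶ B ⊗ A` -/
abbrev inclB : A ⟶ EB k A B := lvIncl k klinA B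

theorem h0B [Module.Flat k B] : ((inclB k A B).app (op ⟨0⟩)).hom.Flat := inF_flat k klinA B ⟨0⟩

theorem hEB : GR (EB k A B) := gr_lvF k klinA B (GRF.gr (k := k))

/-- the levels -/
abbrev LvB [Module.Flat k B] : LvRing.{u} (A.obj (op ⟨0⟩)) := lvOf (inclB k A B) (h0B k A B) (hEB k A B)

theorem LvB_x [Module.Flat k B] (n : ℕ) (i : Fin (n + 1)) : (LvB k A B).x n i = xp k A B n i := rfl

theorem LvB_r [Module.Flat k B] {m n : ℕ} (a : Fin (m + 1) → Fin (n + 1)) :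
    (LvB k A B).r a = lv k A (AlgHom.id k B) a := rfl

variable {k A}

/-- the arrows -/
def arB {H : K104.GFun k} {P : PGpd.{u} (A.obj (op ⟨0⟩))} (L : Lev k A H P) [Module.Flat k B] :
    LvArr P (LvB k A B) (H.pt B) where
  arr n i j h := L.ar B n i j h
  arr_one n i := L.ar_one B n i
  arr_comp n i j l h h' := L.ar_comp B n i j l h h'
  arr_pull {m n} a i j h := by
    have h1 := L.ar_pull (AlgHom.id k B) a i j h
    rw [H.map_id] at h1
    exact h1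

end Lv

section Alg

variable {k : Type u} [CommRing k] {A : NFᵒᵖ ⥤ CommRingCat.{u}} [GRF k A] (Y : AffOver A) (B : Type u) [CommRing B]
  [Algebra k B]

/-- the rings of the levels of `D` -/
abbrev GB : NFᵒᵖ ⥤ CommRingCat.{u} := lvF k (klinD (k := k) Y) B

/-- `B ⊗ A ⟶ B ⊗ D` -/
abbrev jB : EB k A B ⟶ GB (k := k) Y B := lvMap k klinA (klinD Y) Y.j (fun _ _ => rfl) B

variable {D' : Type u} [CommRing D'] [Algebra (A.obj (op ⟨0⟩)) D'] (iD : D' ≃ₐ[A.obj (op ⟨0⟩)] Y.D.obj (op ⟨0⟩))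

theorem po_iso : IsPO (RingHom.id (A.obj (op ⟨0⟩))) (algebraMap (A.obj (op ⟨0⟩)) D')
    (algebraMap (A.obj (op ⟨0⟩)) (Y.D.obj (op ⟨0⟩))) (iD : D' →+* Y.D.obj (op ⟨0⟩)) := by
  haveI : IsIso (CommRingCat.ofHom (RingHom.id (A.obj (op ⟨0⟩)))) :=
    inferInstanceAs (IsIso (𝟙 (CommRingCat.of (A.obj (op ⟨0⟩)))))
  haveI : IsIso (CommRingCat.ofHom (iD : D' →+* Y.D.obj (op ⟨0⟩))) :=
    (iD.toRingEquiv.toCommRingCatIso).isIso_hom
  refine IsPushout.of_horiz_isIso ⟨?_⟩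
  rw [← CommRingCat.ofHom_comp, ← CommRingCat.ofHom_comp]
  refine congrArg CommRingCat.ofHom (RingHom.ext fun r => ?_)
  exact (iD.commutes r).symm

/-- the vertices of `D` -/
def dltB (n : ℕ) (i : Fin (n + 1)) : D' →+* (GB (k := k) Y B).obj (op ⟨n⟩) :=
  ((rg (GB (k := k) Y B) (pt ⟨n⟩ i)).comp (inF k (klinD Y) B ⟨0⟩)).comp (iD : D' →+* Y.D.obj (op ⟨0⟩))

theorem dltB_apply (n : ℕ) (i : Fin (n + 1)) (d : D') : dltB (k := k) Y B iD n i d = 1 ⊗ₜ[k] rg Y.D (pt ⟨n⟩ i) (iD d) :=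
  rfl

/-- the levels of `D` -/
def algLevB : AlgLev (vxOf (inclB k A B)) D' where
  G := GB (k := k) Y B
  j := jB Y B
  cart := cartHom_lvMap k klinA (klinD Y) Y.j (fun _ _ => rfl) B Y.cart
  δ n i := dltB (k := k) Y B iD n i
  δ_nat {m n} a i := by
    refine RingHom.ext fun d => ?_
    show (1 : B) ⊗ₜ[k] rg Y.D (ar a) (rg Y.D (pt ⟨m⟩ i) (iD d)) = (1 : B) ⊗ₜ[k] rg Y.D (pt ⟨n⟩ (a i)) (iD d)
    congr 1
    exact (congr($(rg_comp Y.D (ar a) (pt ⟨m⟩ i)) (iD d))).symm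
  po n i := by
    have h1 : IsPO (rg (EB k A B) (pt ⟨n⟩ i)) ((jB Y B).app (op ⟨0⟩)).hom ((jB Y B).app (op ⟨n⟩)).hom
      (rg (GB (k := k) Y B) (pt ⟨n⟩ i)) := cartHom_lvMap k klinA (klinD Y) Y.j (fun _ _ => rfl) B Y.cart (pt ⟨n⟩ i)
    have h2 : IsPO (inF k klinA B ⟨0⟩) (Y.j.app (op ⟨0⟩)).hom ((jB Y B).app (op ⟨0⟩)).hom (inF k (klinD Y) B ⟨0⟩) :=
      (po_lvMap k klinA (klinD Y) Y.j (fun _ _ => rfl) B ⟨0⟩).flip
    have h3 := IsPO.paste (po_iso Y iD) (IsPO.paste h2 h1)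
    rw [RingHom.comp_id] at h3
    exact h3

end Alg

end Groth.Agent.ResProp.EF.K172
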